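import Groth.Agent.NormalLib.CompleteLocal
import Groth.Agent.NormalLib.Serre
import Groth.Agent.HensGRingLib.J2
import Groth.Agent.LocCohLib.NonVanishingApp
import Groth.Agent.CommAlgDim.DepthBounds
import Groth.Agent.WeilLib.Dim
import Groth.Agent.EtLocLib.Henselian
import Mathlib

/-! # Flat ascent of the condition that all components have dimension at least two -/

set_option autoImplicit false

universe u

open IsLocalRing CommAlgDim TensorProduct
open scoped Pointwise

namespace C2FlatLib

/-- The normalisation of a complete local domain of dimension at least two has a regular sequence of length two. -/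
theorem exists_finite_hasSeqIn (A : Type u) [CommRing A] [IsLocalRing A] [IsNoetherianRing A]
    [IsAdicComplete (maximalIdeal A) A] (P : Ideal A) [P.IsPrime] (hdim : (2 : WithBot ℕ∞) ≤ ringKrullDim (A ⧸ P)) :
    ∃ (M : Type u) (_ : AddCommGroup M) (_ : Module A M) (_ : Module.Finite A M) (ι : (A ⧸ P) →ₗ[A] M),
      Function.Injective ι ∧ HasSeqIn (maximalIdeal A) M 2 := by
  let R := A ⧸ P
  haveI : IsLocalRing R := IsLocalRing.of_surjective' (Ideal.Quotient.mk _) Ideal.Quotient.mk_surjective
  haveI := NormalLib.isAdicComplete_quotient_local P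
  haveI : HenselianLocalRing R := EtLocLib.henselianLocalRing_of_isAdicComplete R
  let K := FractionRing R
  let C := integralClosure R K
  haveI : Module.Finite R C := NormalLib.isN2_of_isAdicComplete_local R K inferInstance
  haveI : IsNoetherianRing C := IsNoetherianRing.of_finite R C
  haveI : IsLocalRing C := HensGRingLib.isLocalRing_of_finite_domain R C
  haveI : IsFractionRing C K := integralClosure.isFractionRing_of_finite_extension K K
  haveI : IsIntegrallyClosed C := integralClosure.isIntegrallyClosedOfFiniteExtension K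
  haveI : Algebra.IsIntegral R C := Algebra.IsIntegral.of_finite R C
  have hRC : Function.Injective (algebraMap R C) := fun a b h => IsFractionRing.injective R K (congrArg Subtype.val h)
  have hdimC : ringKrullDim R = ringKrullDim C := (WeilLib.ringKrullDim_eq_of_integral R C hRC).symm
  letI : Algebra A C := ((algebraMap R C).comp (Ideal.Quotient.mk P)).toAlgebra
  haveI : IsScalarTower A R C := IsScalarTower.of_algebraMap_eq fun _ => rfl
  haveI : Module.Finite A C := Module.Finite.trans R C
  refine ⟨C, inferInstance, inferInstance, inferInstance, (IsScalarTower.toAlgHom A R C).toLinearMap, hRC, ?_⟩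
  obtain ⟨x, hx, hxP⟩ : ∃ x ∈ maximalIdeal A, x ∉ P := SetLike.not_le_iff_exists.1 fun hle => by
    haveI : P.IsMaximal := le_antisymm (le_maximalIdeal ‹P.IsPrime›.ne_top) hle ▸ inferInstance
    rw [ringKrullDim_eq_zero_of_isField ((Ideal.Quotient.maximal_ideal_iff_isField_quotient P).1 inferInstance)] at hdim
    exact absurd hdim (by decide)
  let x' := algebraMap A C x
  have hx0 : x' ≠ 0 := fun h => hxP (Ideal.Quotient.eq_zero_iff_mem.1 (hRC (h.trans (map_zero _).symm)))
  have hreg : IsSMulRegular C x := fun a b h => by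
    simp only [Algebra.smul_def] at h
    exact mul_left_cancel₀ hx0 h
  refine hasSeqIn_succ_of_cons hx hreg ((hasSeqIn_one_iff _).2 fun p hp hle => ?_)
  obtain ⟨hpp, y, hy⟩ := isAssociatedPrime_iff.1 (AssociatedPrimes.mem_iff.1 hp)
  obtain ⟨z, rfl⟩ := Submodule.mkQ_surjective _ y
  let I : Ideal C := Ideal.span {x'}
  have hzI : ∀ c, c ∈ (x • (⊤ : Submodule A C)) ↔ c ∈ I := fun c => by
    rw [Submodule.mem_smul_pointwise_iff_exists, Ideal.mem_span_singleton']
    exact ⟨fun ⟨d, _, hd⟩ => ⟨d, by rw [← hd, Algebra.smul_def, mul_comm]⟩,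
      fun ⟨d, hd⟩ => ⟨d, trivial, by rw [← hd, Algebra.smul_def, mul_comm]⟩⟩
  have hz : z ∉ I := fun h => hpp.ne_top ((Ideal.eq_top_iff_one p).2 (by
    rw [hy, Submodule.mem_colon_singleton, Submodule.mem_bot, one_smul]
    exact (Submodule.Quotient.mk_eq_zero _).2 ((hzI z).2 h)))
  have hm : ∀ a ∈ maximalIdeal A, algebraMap A C a * z ∈ I := fun a ha => by
    have h1 := hle ha
    rw [hy, Submodule.mem_colon_singleton, Submodule.mem_bot, ← map_smul, Submodule.mkQ_apply,
      Submodule.Quotient.mk_eq_zero, hzI] at h1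
    rwa [Algebra.smul_def] at h1
  obtain ⟨Q, hQ, hQle⟩ := exists_le_isAssociatedPrime_of_isNoetherianRing C (Ideal.Quotient.mk I z)
    (fun h => hz (Ideal.Quotient.eq_zero_iff_mem.1 h))
  haveI := hQ.isPrime
  have hQm : Q = maximalIdeal C := by
    refine IsLocalRing.eq_maximalIdeal ?_
    have hc : (maximalIdeal A).map (algebraMap A C) ≤ Q := Ideal.map_le_iff_le_comap.2 fun a ha => hQle (by
      rw [Submodule.mem_colon_singleton, Submodule.mem_bot]
      show Ideal.Quotient.mk I (algebraMap A C a * z) = 0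
      exact Ideal.Quotient.eq_zero_iff_mem.2 (hm a ha))
    haveI : Algebra.IsIntegral A C := Algebra.IsIntegral.of_finite A C
    haveI : (Q.comap (algebraMap A C)).IsMaximal :=
      le_antisymm (le_maximalIdeal (Ideal.IsPrime.comap _).ne_top) (Ideal.map_le_iff_le_comap.1 hc) ▸ inferInstance
    exact Ideal.isMaximal_of_isIntegral_of_isMaximal_comap (R := A) Q inferInstance
  haveI := NormalLib.isDVR_of_maximalIdeal_mem_associatedPrimes hx0 (hQm ▸ hQ : maximalIdeal C ∈ associatedPrimes C (C ⧸ I))
  rw [show ringKrullDim (A ⧸ P) = ringKrullDim C from hdimC,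
    IsPrincipalIdealRing.ringKrullDim_eq_one C (IsDiscreteValuationRing.not_isField C)] at hdim
  exact absurd hdim (by decide)

/-- Flat local ascent of the lower bound two for the dimensions of the components. -/
theorem two_le_dim (A B : Type u) [CommRing A] [IsLocalRing A] [IsNoetherianRing A]
    [IsAdicComplete (maximalIdeal A) A] [CommRing B] [IsLocalRing B] [IsNoetherianRing B]
    [Algebra A B] [Module.Flat A B] (hloc : (maximalIdeal A).map (algebraMap A B) ≤ maximalIdeal B)
    (hA : ∀ P ∈ minimalPrimes A, (2 : WithBot ℕ∞) ≤ ringKrullDim (A ⧸ P)) :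
    ∀ q ∈ minimalPrimes B, (2 : WithBot ℕ∞) ≤ ringKrullDim (B ⧸ q) := by
  intro q hq
  haveI := hq.1.1
  let P := q.comap (algebraMap A B)
  have hP : P ∈ minimalPrimes A := by
    refine ⟨⟨inferInstance, bot_le⟩, fun P' hP' hle => ?_⟩
    haveI := hP'.1
    haveI : q.LiesOver P := ⟨rfl⟩
    obtain ⟨Q', hQ'le, hQ'p, hQ'l⟩ := Ideal.exists_ideal_le_liesOver_of_le (p := P') (q := P) q hle
    rw [hQ'l.over, le_antisymm hQ'le (hq.2 ⟨hQ'p, bot_le⟩ hQ'le)]
  obtain ⟨M, _, _, _, ι, hι, hseq⟩ := exists_finite_hasSeqIn A P (hA P hP)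
  let N := B ⊗[A] M
  have h2 : HasSeqIn (maximalIdeal B) N 2 := by
    obtain ⟨rs, hl, hm, hr⟩ := (le_idealDepth_iff _ 2).1
      (((le_idealDepth_iff _ 2).2 hseq).trans (LocCohLib.idealDepth_baseChange_ge (B := B) _ M))
    exact ⟨rs, hl, fun r hr' => hloc (hm r hr'), hr⟩
  have hass : q ∈ associatedPrimes B N := by
    refine Module.associatedPrimes.minimalPrimes_annihilator_subset_associatedPrimes B N ⟨⟨inferInstance, ?_⟩, ?_⟩
    · intro b hb
      have h1 : b • ((1 : B) ⊗ₜ[A] ι 1) = 0 := Module.mem_annihilator.1 hb _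
      have h2 : ι.lTensor B (b ⊗ₜ[A] (1 : A ⧸ P)) = ι.lTensor B 0 := by
        rw [map_zero, LinearMap.lTensor_tmul, ← h1, TensorProduct.smul_tmul', smul_eq_mul, mul_one]
      have h3 := Module.Flat.lTensor_preserves_injective_linearMap ι hι h2
      rw [← TensorProduct.tensorQuotEquivQuotSMul_symm_mk, map_eq_zero_iff _ (LinearEquiv.injective _),
        Submodule.Quotient.mk_eq_zero, Ideal.smul_top_eq_map] at h3
      exact Ideal.map_le_iff_le_comap.2 le_rfl h3
    · exact fun Q hQ hle => hq.2 ⟨hQ.1, bot_le⟩ hle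
  exact depth_le_ringKrullDim_quotient hass h2

end C2FlatLib
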